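import Groth.Agent.NormPiSmooth.Ring
import Groth.Agent.NormCoker.Basic
import Groth.Agent.NormSmoothBC.Basic
import Groth.Agent.RedSepLib.Basic
import Groth.Agent.RegLoc.Normal

/-!
Normalization of the reduced base change of an integral curve becomes smooth after a finite purely inseparable
extension.
-/

set_option autoImplicit false
set_option backward.isDefEq.respectTransparency false
set_option maxHeartbeats 1000000

universe u

open CategoryTheory CategoryTheory.Limits AlgebraicGeometry TopologicalSpace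

namespace Groth.Agent.NormPiSmooth

noncomputable section

theorem universallyInjective_spec {k K : Type u} [Field k] [Field K] [Algebra k K] [IsPurelyInseparable k K] :
    UniversallyInjective (Spec.map (CommRingCat.ofHom (algebraMap k K))) := by
  refine ((tfae_universallyInjective _).out 0 1).2 fun F hF g₁ g₂ h => ?_
  letI : Field F := hF
  obtain ⟨a, rfl⟩ := Spec.map_surjective g₁
  obtain ⟨b, rfl⟩ := Spec.map_surjective g₂
  replace h : Spec.map (CommRingCat.ofHom (algebraMap k K) ≫ a) = Spec.map (CommRingCat.ofHom (algebraMap k K) ≫ b) := by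
    rw [Spec.map_comp, Spec.map_comp]
    exact h
  exact congrArg Spec.map (CommRingCat.hom_ext (IsPurelyInseparable.injective_comp_algebraMap k K F
    (congrArg CommRingCat.Hom.hom (Spec.map_injective h))))

/-- Global functions of a fibre product of affines are generated by the two factors. -/
theorem eq_top_of_isPushout {R S T B : CommRingCat.{u}} {f : R ⟶ S} {g : R ⟶ T} {a : S ⟶ B} {b : T ⟶ B}
    (h : IsPushout f g a b) (M : Subring B) (ha : ∀ x, a x ∈ M) (hb : ∀ x, b x ∈ M) : M = ⊤ := by
  let a' : S ⟶ CommRingCat.of M := CommRingCat.ofHom (a.hom.codRestrict M ha)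
  let b' : T ⟶ CommRingCat.of M := CommRingCat.ofHom (b.hom.codRestrict M hb)
  have hw : f ≫ a' = g ≫ b' := CommRingCat.hom_ext (RingHom.ext fun x => Subtype.ext
    (congrArg (fun m : R ⟶ B => m.hom x) h.w))
  have e : h.desc a' b' hw ≫ CommRingCat.ofHom M.subtype = 𝟙 B :=
    h.hom_ext (by rw [h.inl_desc_assoc]; rfl) (by rw [h.inr_desc_assoc]; rfl)
  refine eq_top_iff.2 fun z _ => ?_
  have := congrArg (fun m : B ⟶ B => m.hom z) e
  exact (show ((h.desc a' b' hw).hom z).1 = z from this) ▸ ((h.desc a' b' hw).hom z).2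

variable (k : Type u) [Field k] (X : Scheme.{u}) [X.Over (Spec (CommRingCat.of k))] (k' : Type u) [Field k'] [Algebra k k']

/-- The reduced base change. -/
abbrev RZ : Scheme.{u} := (Curv2.bc k X k').nilradical.subscheme

/-- The projection to the original scheme. -/
abbrev jX : RZ k X k' ⟶ X := (Curv2.bc k X k').nilradical.subschemeι ≫ Curv2.bcFst k X k'

/-- The structure map. -/
abbrev sK : RZ k X k' ⟶ Spec (CommRingCat.of k') :=
  (Curv2.bc k X k').nilradical.subschemeι ≫ Curv2.bcSnd k X k'

/-- The scalars in the functions on an open. -/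
abbrev cst {Y : Scheme.{u}} {E : Type u} [Field E] (g : Y ⟶ Spec (CommRingCat.of E)) (V : Y.Opens) : E →+* Γ(Y, V) :=
  ((Scheme.ΓSpecIso (CommRingCat.of E)).inv ≫ g.appLE ⊤ V le_top).hom

/-- Functions on the reduced base change of an affine open are generated by the functions and the scalars. -/
theorem eq_top_of_mem {U : X.Opens} (hU : IsAffineOpen U) (M : Subring Γ(RZ k X k', jX k X k' ⁻¹ᵁ U))
    (ha : ∀ a, (jX k X k').app U a ∈ M) (hc : ∀ c, cst (sK k X k') (jX k X k' ⁻¹ᵁ U) c ∈ M) : M = ⊤ := by
  set i := (Curv2.bc k X k').nilradical.subschemeι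
  set p := Curv2.bcFst k X k'
  set W := p ⁻¹ᵁ U
  haveI : IsAffineHom p := MorphismProperty.pullback_fst (P := @IsAffineHom) _ _ inferInstance
  have hW : IsAffineOpen W := hU.preimage p
  have sq : IsPullback (p ∣_ U) (W.ι ≫ Curv2.bcSnd k X k') (U.ι ≫ (X ↘ Spec (CommRingCat.of k)))
      (Spec.map (CommRingCat.ofHom (algebraMap k k'))) :=
    (isPullback_morphismRestrict p U).paste_vert (IsPullback.of_hasPullback _ _)
  haveI : IsAffine (U : Scheme.{u}) := hU
  haveI : IsAffine (W : Scheme.{u}) := hW
  have hpo := isPushout_appTop_of_isPullback sq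
  have hsurj : Function.Surjective (i.app W).hom := i.app_surjective W hW
  let σ : Γ(W.toScheme, ⊤) →+* Γ(RZ k X k', jX k X k' ⁻¹ᵁ U) := (W.topIso.hom ≫ i.app W).hom
  have hσ : Function.Surjective σ := hsurj.comp W.topIso.commRingCatIsoToRingEquiv.surjective
  have hM : M.comap σ = ⊤ := by
    refine eq_top_of_isPushout hpo _ (fun x => ?_) fun x => ?_
    · show i.app W (W.topIso.hom ((p ∣_ U).appTop x)) ∈ M
      have e : (p ∣_ U).appTop ≫ W.topIso.hom = U.topIso.hom ≫ p.app U := by
        simp only [morphismRestrict_appTop, Scheme.Opens.topIso_hom, Category.assoc, Scheme.Hom.naturality]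
        rw [← Functor.map_comp]
        exact Scheme.Hom.naturality _ _ ▸ rfl
      rw [show W.topIso.hom ((p ∣_ U).appTop x) = p.app U (U.topIso.hom x) from congrArg (fun m => m.hom x) e]
      have := ha (U.topIso.hom x)
      rwa [show (jX k X k').app U = p.app U ≫ i.app W from Scheme.Hom.comp_app _ _ _] at this
    · show i.app W (W.topIso.hom ((W.ι ≫ Curv2.bcSnd k X k').appTop x)) ∈ M
      have e : (W.ι ≫ Curv2.bcSnd k X k').appTop ≫ W.topIso.hom ≫ i.app W =
          (sK k X k').appLE ⊤ (jX k X k' ⁻¹ᵁ U) le_top := by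
        simp only [Scheme.Hom.comp_appTop, Scheme.Opens.ι_appTop, Scheme.Opens.topIso_hom, Category.assoc,
          Scheme.Hom.appLE, Scheme.Hom.comp_app]
        refine congrArg _ ?_
        show _ ≫ _ ≫ _ = _
        simp only [Scheme.Opens.ι_app, ← Functor.map_comp_assoc]
        exact (i.naturality _).trans rfl
      rw [show i.app W (W.topIso.hom ((W.ι ≫ Curv2.bcSnd k X k').appTop x)) = _ from congrArg (fun m => m.hom x) e]
      obtain ⟨c, rfl⟩ := (Scheme.ΓSpecIso (CommRingCat.of k')).symm.commRingCatIsoToRingEquiv.surjective x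
      exact hc c
  refine eq_top_iff.2 fun z _ => ?_
  obtain ⟨w, rfl⟩ := hσ z
  have : w ∈ M.comap σ := hM ▸ Subring.mem_top w
  exact this

theorem cst_res {Y : Scheme.{u}} {E : Type u} [Field E] (g : Y ⟶ Spec (CommRingCat.of E)) {V V' : Y.Opens}
    (h : V' ≤ V) (c : E) : Y.presheaf.map (homOfLE h).op (cst g V c) = cst g V' c := by
  rw [cst, cst, ← Scheme.Hom.appLE_map g le_top (homOfLE h).op]
  rfl

/-- Main statement. -/
theorem main [IsIntegral X] [LocallyOfFiniteType (X ↘ Spec (CommRingCat.of k))]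
    [QuasiCompact (X ↘ Spec (CommRingCat.of k))] (hdim : topologicalKrullDim X ≤ 1) :
    ∃ (k' : Type u) (_ : Field k') (_ : Algebra k k'), FiniteDimensional k k' ∧ IsPurelyInseparable k k' ∧
      ∃ (_ : IsIntegral (Curv2.bc k X k').nilradical.subscheme)
        (_ : QuasiCompact ((Curv2.bc k X k').nilradical.subscheme.fromSpecStalk
              (genericPoint (Curv2.bc k X k').nilradical.subscheme)))
        (_ : QuasiSeparated ((Curv2.bc k X k').nilradical.subscheme.fromSpecStalk
              (genericPoint (Curv2.bc k X k').nilradical.subscheme))),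
        Smooth (Curv2.normalizationι (Curv2.bc k X k').nilradical.subscheme ≫
          (Curv2.bc k X k').nilradical.subschemeι ≫ Curv2.bcSnd k X k') := by
  classical
  let f := X ↘ Spec (CommRingCat.of k)
  haveI : CompactSpace X := HasAffineProperty.iff_of_isAffine.1 ‹QuasiCompact f›
  let L := AlgebraicClosure X.functionField
  let c0 : k →+* L :=
    ((algebraMap X.functionField L).comp (X.presheaf.germ ⊤ (genericPoint X) trivial).hom).comp (cst f ⊤)
  letI : Algebra k L := c0.toAlgebra
  -- charts
  obtain ⟨s, hs, hcov⟩ := (isCompact_iff_finite_and_eq_biUnion_affineOpens (X := X) (U := ⊤)).mp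
    (by simpa using isCompact_univ)
  have key : ∀ U : X.affineOpens, Nonempty (U : X.Opens) →
      ∃ S : Finset L, (S : Set L) ⊆ perfectClosure k L ∧ ∀ E : IntermediateField k L, E ≤ perfectClosure k L →
        (S : Set L) ⊆ E → ∀ (hUne : Nonempty (U : X.Opens)),
          ∃ C : Subalgebra E L, (∀ a, algebraMap X.functionField L (X.germToFunctionField (U : X.Opens) a) ∈ C) ∧
            Algebra.Smooth E C ∧ ∀ c ∈ C,
            IsIntegral (Algebra.adjoin E (Set.range fun a => algebraMap X.functionField L (X.germToFunctionField (U : X.Opens) a))) c ∧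
            ∃ d ∈ Algebra.adjoin E (Set.range fun a => algebraMap X.functionField L (X.germToFunctionField (U : X.Opens) a)),
              d ≠ 0 ∧ d * c ∈ Algebra.adjoin E (Set.range fun a => algebraMap X.functionField L (X.germToFunctionField (U : X.Opens) a)) := by
    intro U hUne
    let A := Γ(X, (U : X.Opens))
    letI : Algebra k A := (cst f (U : X.Opens)).toAlgebra
    haveI : Algebra.FiniteType k A := by
      refine RingHom.finiteType_algebraMap.1 ?_
      have h := HasRingHomProperty.appLE (P := @LocallyOfFiniteType) f ‹_› ⟨⊤, isAffineOpen_top _⟩ U le_top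
      exact h.comp (RingHom.FiniteType.of_surjective _
        (Scheme.ΓSpecIso (CommRingCat.of k)).symm.commRingCatIsoToRingEquiv.surjective)
    letI : Algebra A L := ((algebraMap X.functionField L).comp (X.germToFunctionField (U : X.Opens)).hom).toAlgebra
    haveI : @IsScalarTower k A L Algebra.toSMul Algebra.toSMul Algebra.toSMul := IsScalarTower.of_algebraMap_eq fun c => by
      show algebraMap X.functionField L (X.presheaf.germ ⊤ (genericPoint X) trivial (cst f ⊤ c)) =
        algebraMap X.functionField L (X.germToFunctionField (U : X.Opens) (cst f (U : X.Opens) c))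
      rw [← cst_res f (le_top : (U : X.Opens) ≤ ⊤) c]
      exact congrArg _ (TopCat.Presheaf.germ_res_apply X.presheaf _ _ _ _).symm
    haveI : Ring.DimensionLEOne A := by
      have hk : Ring.KrullDimLE 1 A := (Order.krullDimLE_iff 1 (PrimeSpectrum A)).2 (by
        have h : ringKrullDim A ≤ topologicalKrullDim X := by
          rw [← PrimeSpectrum.topologicalKrullDim_eq_ringKrullDim]
          exact U.2.fromSpec.isOpenEmbedding.isInducing.topologicalKrullDim_le
        exact h.trans hdim)
      exact ⟨fun {q} hq hqp => Ring.krullDimLE_one_iff_of_noZeroDivisors.mp hk q hq hqp⟩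
    obtain ⟨S, hS, hgood⟩ := exists_good k A L ((algebraMap X.functionField L).injective.comp
      (Scheme.germToFunctionField_injective X _))
    exact ⟨S, hS, fun E hE hSE _ => hgood E hE hSE⟩
  choose! S hSP hgood using key
  haveI := hs.fintype
  let Stot : Finset L := (Finset.univ : Finset s).biUnion fun U => if Nonempty (U.1.1 : X.Opens) then S U.1 else ∅
  let E : IntermediateField k L := IntermediateField.adjoin k (Stot : Set L)
  have hStot : (Stot : Set L) ⊆ perfectClosure k L := by
    intro x hx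
    simp only [Stot, Finset.coe_biUnion, Set.mem_iUnion] at hx
    obtain ⟨U, -, hx⟩ := hx
    split_ifs at hx with h
    · exact hSP _ h hx
    · simp at hx
  have hEP : E ≤ perfectClosure k L := IntermediateField.adjoin_le_iff.2 hStot
  haveI hpi : IsPurelyInseparable k E := (le_perfectClosure_iff k L E).1 hEP
  haveI hfin : FiniteDimensional k E := IntermediateField.finiteDimensional_adjoin fun x hx =>
    ((Algebra.IsAlgebraic.isAlgebraic (R := k)
      (⟨x, hStot hx⟩ : perfectClosure k L))).isIntegral.map (perfectClosure k L).val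
  refine ⟨E, inferInstance, inferInstance, hfin, hpi, ?_⟩
  let Z := RZ k X E
  let p := Curv2.bcFst k X E
  let i := (Curv2.bc k X E).nilradical.subschemeι
  let j := jX k X E
  haveI : UniversallyInjective p := MorphismProperty.pullback_fst _ _ universallyInjective_spec
  haveI : IsFinite (Spec.map (CommRingCat.ofHom (algebraMap k E))) := by
    rw [IsFinite.SpecMap_iff, CommRingCat.hom_ofHom, RingHom.finite_algebraMap]
    exact hfin
  haveI : Surjective (Spec.map (CommRingCat.ofHom (algebraMap k E))) :=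
    ⟨fun x => ⟨IsLocalRing.closedPoint _, Subsingleton.elim (α := PrimeSpectrum k) _ _⟩⟩
  haveI : IsFinite p := MorphismProperty.pullback_fst _ _ ‹_›
  haveI : Surjective p := MorphismProperty.pullback_fst _ _ ‹_›
  haveI : Surjective i := ⟨fun x => by
    have : x ∈ Set.range i := by
      rw [Scheme.IdealSheafData.range_subschemeι, Scheme.support_nilradical]
      trivial
    exact this⟩
  haveI : IsFinite j := inferInstanceAs (IsFinite (i ≫ p))
  haveI : Surjective j := inferInstanceAs (Surjective (i ≫ p))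
  have hjinj : Function.Injective j := fun a b h => i.isEmbedding.injective (p.injective h)
  let hom : Z ≃ₜ X := (isHomeomorph_iff_isEmbedding_surjective.2
    ⟨(Topology.IsClosedEmbedding.of_continuous_injective_isClosedMap j.continuous hjinj j.isClosedMap).isEmbedding,
      j.surjective⟩).homeomorph
  haveI : IrreducibleSpace Z := hom.symm.surjective.irreducibleSpace hom.symm.continuous
  haveI : IsReduced Z := RedSepLib.isReduced_subscheme_nilradical _
  haveI hZ : IsIntegral Z := isIntegral_of_irreducibleSpace_of_isReduced Z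
  haveI : LocallyOfFiniteType (sK k X E) := inferInstance
  haveI : IsLocallyNoetherian Z := LocallyOfFiniteType.isLocallyNoetherian (sK k X E)
  haveI hq : QuasiCompact (Z.fromSpecStalk (genericPoint Z)) := inferInstance
  haveI hs' : QuasiSeparated (Z.fromSpecStalk (genericPoint Z)) := inferInstance
  refine ⟨hZ, hq, hs', ?_⟩
  -- embedding of the function field
  have hjg : j (genericPoint Z) = genericPoint X := by
    have h1 : IsGenericPoint (j (genericPoint Z)) (Set.univ : Set X) := by
      have := (genericPoint_spec Z).image j.continuous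
      rwa [Set.image_univ, j.surjective.range_eq, closure_univ] at this
    exact h1.eq (genericPoint_spec X)
  let jK : X.functionField ⟶ Z.functionField :=
    (X.presheaf.stalkCongr (.of_eq hjg.symm)).hom ≫ j.stalkMap (genericPoint Z)
  letI : Algebra X.functionField Z.functionField := jK.hom.toAlgebra
  have hjK : ∀ (U : X.Opens) [Nonempty U] [Nonempty (j ⁻¹ᵁ U : Z.Opens)] (a : Γ(X, U)),
      jK (X.germToFunctionField U a) = Z.germToFunctionField (j ⁻¹ᵁ U) (j.app U a) := fun U _ _ a => by
    have hU : genericPoint X ∈ U :=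
      ((genericPoint_spec X).mem_open_set_iff U.isOpen).mpr (by simpa using Set.nonempty_coe_sort.1 ‹Nonempty U›)
    have h1 : X.presheaf.germ U (genericPoint X) hU ≫ jK =
        X.presheaf.germ U (j (genericPoint Z)) (hjg.symm ▸ hU) ≫ j.stalkMap (genericPoint Z) := by
      simp only [jK, TopCat.Presheaf.stalkCongr_hom, ← Category.assoc]
      exact congrArg (· ≫ _) (TopCat.Presheaf.germ_stalkSpecializes _ _ _)
    rw [Scheme.Hom.germ_stalkMap] at h1
    exact congrArg (fun m => m.hom a) h1
  haveI : Nonempty X := ⟨genericPoint X⟩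
  haveI : Algebra.IsAlgebraic X.functionField Z.functionField := by
    obtain ⟨W, hW, hWg, -⟩ := exists_isAffineOpen_mem_and_subset (X := X) (x := genericPoint X) (U := ⊤) trivial
    haveI : Nonempty W := ⟨⟨_, hWg⟩⟩
    haveI : Nonempty (j ⁻¹ᵁ W : Z.Opens) := ⟨⟨genericPoint Z, show j _ ∈ W by rw [hjg]; exact hWg⟩⟩
    have hV : IsAffineOpen (j ⁻¹ᵁ W) := hW.preimage j
    haveI := functionField_isFractionRing_of_isAffineOpen Z _ hV
    have hb : ∀ b : Γ(Z, j ⁻¹ᵁ W), IsIntegral X.functionField (algebraMap Γ(Z, j ⁻¹ᵁ W) Z.functionField b) := fun b => by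
      obtain ⟨q, hq, hqb⟩ := (j.finite_app W hW).to_isIntegral b
      refine ⟨q.map (X.germToFunctionField W).hom, hq.map _, ?_⟩
      rw [Polynomial.eval₂_map, show (algebraMap X.functionField Z.functionField).comp (X.germToFunctionField W).hom =
        (Z.germToFunctionField (j ⁻¹ᵁ W)).hom.comp (j.app W).hom from RingHom.ext fun a => hjK W a]
      rw [show algebraMap Γ(Z, j ⁻¹ᵁ W) Z.functionField b = (Z.germToFunctionField (j ⁻¹ᵁ W)).hom b from rfl,
        ← Polynomial.hom_eval₂, hqb, map_zero]
    refine ⟨fun z => ?_⟩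
    obtain ⟨a, b, -, rfl⟩ := IsFractionRing.div_surjective (A := Γ(Z, j ⁻¹ᵁ W)) z
    exact IsIntegral.isAlgebraic ((hb a).mul ((hb b).inv))
  let θ : Z.functionField →ₐ[X.functionField] L := IsAlgClosed.lift
  have hE : ∀ (V : Z.Opens) [Nonempty V] (c : E), θ (Z.germToFunctionField V (cst (sK k X E) V c)) = (c : L) := by
    intro V _ c
    have htop : ∀ c, θ (Z.germToFunctionField V (cst (sK k X E) V c)) =
        θ (Z.presheaf.germ ⊤ (genericPoint Z) trivial (cst (sK k X E) ⊤ c)) := fun c => by
      rw [← cst_res (sK k X E) (le_top : V ≤ ⊤) c]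
      exact congrArg θ (TopCat.Presheaf.germ_res_apply Z.presheaf _ _ _ _)
    rw [htop]
    let ψ : E →+* L := (θ.toRingHom.comp (Z.presheaf.germ ⊤ (genericPoint Z) trivial).hom).comp (cst (sK k X E) ⊤)
    show ψ c = E.val.toRingHom c
    refine DFunLike.congr_fun (IsPurelyInseparable.injective_comp_algebraMap k E L (RingHom.ext fun a => ?_)) c
    show θ (Z.presheaf.germ ⊤ (genericPoint Z) trivial (cst (sK k X E) ⊤ (algebraMap k E a))) = algebraMap k L a
    have hsq : j ≫ f = sK k X E ≫ Spec.map (CommRingCat.ofHom (algebraMap k E)) := by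
      show (i ≫ p) ≫ f = (i ≫ Curv2.bcSnd k X E) ≫ _
      rw [Category.assoc, Category.assoc, pullback.condition]
    have h1 : cst (sK k X E) ⊤ (algebraMap k E a) = j.app ⊤ (cst f ⊤ a) := by
      have e : (Scheme.ΓSpecIso (CommRingCat.of k)).inv ≫ (j ≫ f).appLE ⊤ ⊤ le_top =
          CommRingCat.ofHom (algebraMap k E) ≫ (Scheme.ΓSpecIso (CommRingCat.of E)).inv ≫ (sK k X E).appLE ⊤ ⊤ le_top := by
        rw [hsq, Scheme.Hom.comp_appLE, Scheme.ΓSpecIso_inv_naturality_assoc]
        rfl
      rw [Scheme.Hom.comp_appLE] at e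
      refine (congrArg (fun m => m.hom a) e).symm.trans ?_
      simp [cst, Scheme.Hom.appLE]
    rw [h1]
    haveI : Nonempty (⊤ : X.Opens) := ⟨⟨genericPoint X, trivial⟩⟩
    haveI : Nonempty (j ⁻¹ᵁ ⊤ : Z.Opens) := ⟨⟨genericPoint Z, trivial⟩⟩
    exact (congrArg θ (hjK ⊤ (cst f ⊤ a)).symm).trans (θ.commutes _)
  -- smoothness over the charts
  let V : s → Z.Opens := fun U => j ⁻¹ᵁ U.1.1
  let ν := Curv2.normalizationι Z
  refine IsZariskiLocalAtSource.of_iSup_eq_top (P := @Smooth) (fun U : s => ν ⁻¹ᵁ V U) ?_ fun U => ?_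
  · refine Opens.ext (Set.eq_univ_of_forall fun z => ?_)
    have : j (ν z) ∈ (⊤ : X.Opens) := trivial
    rw [hcov] at this
    simp only [Opens.mem_iSup] at this
    obtain ⟨W, hW, hz⟩ := this
    rw [Opens.coe_iSup]
    exact Set.mem_iUnion.2 ⟨⟨W, hW⟩, hz⟩
  have hV : IsAffineOpen (V U) := U.1.2.preimage j
  haveI : IsAffineHom ν := inferInstanceAs (IsAffineHom (Z.fromSpecStalk (genericPoint Z)).fromNormalization)
  have hN : IsAffineOpen (ν ⁻¹ᵁ V U) := hV.preimage ν
  haveI : IsAffine ((ν ⁻¹ᵁ V U : (Curv2.normalization Z).Opens) : Scheme.{u}) := hN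
  rw [HasRingHomProperty.iff_of_isAffine (P := @Smooth)]
  suffices hsm : (cst (ν ≫ sK k X E) (ν ⁻¹ᵁ V U)).Smooth by
    have e : (Scheme.ΓSpecIso (CommRingCat.of E)).inv ≫ ((ν ⁻¹ᵁ V U).ι ≫ ν ≫ sK k X E).appTop ≫
        (ν ⁻¹ᵁ V U).topIso.hom = CommRingCat.ofHom (cst (ν ≫ sK k X E) (ν ⁻¹ᵁ V U)) := by
      simp only [Scheme.Hom.comp_appTop, Scheme.Opens.ι_appTop, Scheme.Opens.topIso_hom, Category.assoc]
      rw [← Functor.map_comp]
      rfl
    have h := congrArg CommRingCat.Hom.hom e
    rw [CommRingCat.hom_ofHom] at h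
    rw [← h] at hsm
    rw [CommRingCat.hom_comp, RingHom.Smooth.propertyIsLocal.respectsIso.cancel_left_isIso, CommRingCat.hom_comp] at hsm
    rwa [RingHom.Smooth.propertyIsLocal.respectsIso.cancel_right_isIso] at hsm
  by_cases hUne : Nonempty (U.1.1 : X.Opens)
  swap
  · haveI : Subsingleton Γ(Curv2.normalization Z, ν ⁻¹ᵁ V U) := by
      rw [show ν ⁻¹ᵁ V U = ⊥ from Opens.ext (Set.eq_empty_iff_forall_notMem.2 fun z hz => hUne ⟨⟨_, hz⟩⟩)]
      infer_instance
    letI := (cst (ν ≫ sK k X E) (ν ⁻¹ᵁ V U)).toAlgebra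
    exact RingHom.smooth_algebraMap.2 inferInstance
  haveI hVne : Nonempty (V U) := by
    obtain ⟨⟨x, hx⟩⟩ := hUne
    obtain ⟨z, rfl⟩ := j.surjective x
    exact ⟨⟨z, hx⟩⟩
  have hSE : (S U.1 : Set L) ⊆ E := fun x hx => IntermediateField.subset_adjoin k _ (by
    simp only [Stot, Finset.coe_biUnion, Set.mem_iUnion]
    exact ⟨U, Finset.mem_coe.2 (Finset.mem_univ U), by rw [if_pos hUne]; exact hx⟩)
  obtain ⟨C, hAC, hCsm, hC⟩ := hgood U.1 hUne E hEP hSE hUne
  haveI := functionField_isFractionRing_of_isAffineOpen Z (V U) hV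
  let B := Γ(Z, V U)
  let D := Algebra.adjoin E (Set.range fun a => algebraMap X.functionField L (X.germToFunctionField (U.1 : X.Opens) a))
  let θB : B →+* L := θ.toRingHom.comp (Z.germToFunctionField (V U)).hom
  have hgenA : ∀ a, θB (j.app U.1.1 a) = algebraMap X.functionField L (X.germToFunctionField (U.1 : X.Opens) a) :=
    fun a => (congrArg θ (hjK U.1.1 a).symm).trans (θ.commutes _)
  have hBD : ∀ b, θB b ∈ D := by
    have htop := eq_top_of_mem k X E U.1.2 (D.toSubring.comap θB) (fun a => ?_) fun c => ?_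
    · intro b
      have : b ∈ D.toSubring.comap θB := htop ▸ Subring.mem_top b
      exact this
    · show θB (j.app U.1.1 a) ∈ D
      rw [hgenA]
      exact Algebra.subset_adjoin ⟨a, rfl⟩
    · show θB (cst (sK k X E) (V U) c) ∈ D
      rw [show θB (cst (sK k X E) (V U) c) = (c : L) from hE (V U) c]
      exact D.algebraMap_mem c
  have hDB : ∀ d ∈ D, ∃ b, θB b = d := by
    intro d hd
    induction hd using Algebra.adjoin_induction with
    | mem x hx => obtain ⟨a, rfl⟩ := hx; exact ⟨_, hgenA a⟩
    | algebraMap c => exact ⟨_, hE (V U) c⟩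
    | add x y _ _ hx hy =>
      obtain ⟨a, rfl⟩ := hx
      obtain ⟨b, rfl⟩ := hy
      exact ⟨a + b, map_add _ _ _⟩
    | mul x y _ _ hx hy =>
      obtain ⟨a, rfl⟩ := hx
      obtain ⟨b, rfl⟩ := hy
      exact ⟨a * b, map_mul _ _ _⟩
  haveI := hCsm
  haveI : IsNoetherianRing C := Algebra.FiniteType.isNoetherianRing E C
  haveI : IsRegularRing C := RegLocus.isRegularRing_of_smooth E C
  haveI : IsIntegrallyClosed C := IsIntegrallyClosed.of_localization_maximal fun q _ hq => by
    haveI := hq.isPrime
    haveI : IsRegularLocalRing (Localization.AtPrime q) := isRegularRing_iff.1 inferInstance q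
    exact RegLoc.isIntegrallyClosed
  let T := integralClosure B Z.functionField
  have hT1 : ∀ z : T, θ z.1 ∈ C := by
    rintro ⟨z, hz⟩
    have hDC : D ≤ C := Algebra.adjoin_le (by rintro _ ⟨a, rfl⟩; exact hAC a)
    have hzC : IsIntegral C (θ z) := hz.map_of_comp_eq (θB.codRestrict C.toSubring fun b => hDC (hBD b))
      θ.toRingHom (RingHom.ext fun b => rfl)
    obtain ⟨a, b, hb, rfl⟩ := IsFractionRing.div_surjective (A := B) z
    have hb0 : θB b ≠ 0 := fun h => nonZeroDivisors.ne_zero hb
      (IsFractionRing.injective B Z.functionField (θ.toRingHom.injective (h.trans (by simp))))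
    let cq : FractionRing C := algebraMap C _ ⟨θB a, hDC (hBD a)⟩ / algebraMap C _ ⟨θB b, hDC (hBD b)⟩
    let η : FractionRing C →ₐ[C] L := IsFractionRing.liftAlgHom (g := Algebra.ofId C L) Subtype.val_injective
    have hη : η cq = θ (algebraMap B Z.functionField a / algebraMap B Z.functionField b) := by
      rw [map_div₀, map_div₀, AlgHom.commutes, AlgHom.commutes]
      rfl
    rw [← hη] at hzC
    obtain ⟨c, hc⟩ := IsIntegrallyClosed.isIntegral_iff.1 ((isIntegral_algHom_iff η η.toRingHom.injective).1 hzC)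
    show θ _ ∈ C
    rw [← hη, ← hc, AlgHom.commutes]
    exact c.2
  let τ : T →+* C := (θ.toRingHom.comp T.val.toRingHom).codRestrict C.toSubring hT1
  have hτ : Function.Bijective τ := by
    refine ⟨fun a b h => Subtype.ext (θ.toRingHom.injective (congrArg Subtype.val h)), fun ⟨c, hc⟩ => ?_⟩
    obtain ⟨hint, d, hd, hd0, hdc⟩ := hC c hc
    obtain ⟨bd, rfl⟩ := hDB d hd
    obtain ⟨bn, hbn⟩ := hDB _ hdc
    let z := algebraMap B Z.functionField bn / algebraMap B Z.functionField bd
    have hθz : θ z = c := by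
      rw [map_div₀, show θ (algebraMap B Z.functionField bn) = θB bn from rfl,
        show θ (algebraMap B Z.functionField bd) = θB bd from rfl, hbn, mul_div_cancel_left₀ _ hd0]
    refine ⟨⟨z, ?_⟩, Subtype.ext hθz⟩
    letI := θB.toAlgebra
    let θ' : Z.functionField →ₐ[B] L := { θ.toRingHom with commutes' := fun b => rfl }
    refine (isIntegral_algHom_iff θ' θ.toRingHom.injective).1 ?_
    show IsIntegral B (θ z)
    rw [hθz]
    obtain ⟨q, hq, hqc⟩ := hint
    obtain ⟨q', hq'⟩ := Polynomial.lifts_and_natDegree_eq_and_monic (f := θB.codRestrict D.toSubring hBD)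
      (p := q) (Polynomial.mem_lifts_of_surjective (fun ⟨d, hd⟩ => by
        obtain ⟨b, hb⟩ := hDB d hd
        exact ⟨b, Subtype.ext hb⟩) q) hq
    refine ⟨q', hq'.2.2, ?_⟩
    rw [← hqc, ← hq'.1, Polynomial.eval₂_map]
    rfl
  letI : Algebra B Γ(Curv2.normalization Z, ν ⁻¹ᵁ V U) := (ν.app (V U)).hom.toAlgebra
  obtain ⟨e⟩ := NormCoker.exists_algEquiv Z hV
  let eC : C ≃+* Γ(Curv2.normalization Z, ν ⁻¹ᵁ V U) :=
    (RingEquiv.ofBijective τ hτ).symm.trans e.toRingEquiv
  have hcomp : eC.toRingHom.comp (algebraMap E C) = cst (ν ≫ sK k X E) (ν ⁻¹ᵁ V U) := by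
    refine RingHom.ext fun c => ?_
    show e ((RingEquiv.ofBijective τ hτ).symm (algebraMap E C c)) = _
    have h1 : (RingEquiv.ofBijective τ hτ).symm (algebraMap E C c) = algebraMap B T (cst (sK k X E) (V U) c) := by
      rw [RingEquiv.symm_apply_eq]
      exact Subtype.ext (hE (V U) c).symm
    rw [h1, e.commutes]
    show ν.app (V U) (cst (sK k X E) (V U) c) = _
    rw [Scheme.Hom.app_eq_appLE]
    exact congrArg (fun m => m.hom ((Scheme.ΓSpecIso (CommRingCat.of E)).inv.hom c))
      (Scheme.Hom.appLE_comp_appLE ν (sK k X E) ⊤ (V U) (ν ⁻¹ᵁ V U) le_top le_rfl)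
  rw [← hcomp]
  exact RingHom.Smooth.propertyIsLocal.respectsIso.1 _ eC (RingHom.smooth_algebraMap.2 hCsm)

end

end Groth.Agent.NormPiSmooth
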