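import Groth.Agent.GenBertini.Basic
import Groth.Agent.N2Field.Basic
import Mathlib.FieldTheory.PurelyInseparable.PerfectClosure
import Mathlib.RingTheory.Etale.Descent

/-!
Normalization of the reduced base change of a domain of dimension at most one is smooth after a finite purely
inseparable extension: the ring statement, inside an algebraically closed overfield.
-/

set_option autoImplicit false

namespace Groth.Agent.NormPiSmooth

open TensorProduct

universe u

set_option maxHeartbeats 2000000
set_option synthInstance.maxHeartbeats 100000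

noncomputable section

theorem dimensionLEOne_of_integral {A T : Type u} [CommRing A] [IsDomain A] [Ring.DimensionLEOne A] [CommRing T]
    [IsDomain T] [Algebra A T] [Algebra.IsIntegral A T] : Ring.DimensionLEOne T :=
  ⟨fun {p} hp hpr => by
    haveI := hpr
    obtain ⟨x, hx, hx0⟩ := Submodule.exists_mem_ne_zero_of_ne_bot hp
    exact Ideal.isMaximal_of_isIntegral_of_isMaximal_comap p
      ((Ideal.IsPrime.comap (algebraMap A T)).isMaximal
        (Ideal.comap_ne_bot_of_integral_mem hx0 hx (Algebra.IsIntegral.isIntegral x)))⟩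

/-- An algebra generated over a smaller field of constants, all of whose relations are defined there, is smooth. -/
theorem smooth_range {E P L T : Type u} [Field E] [Field P] [Algebra E P] [CommRing L] [Algebra E L] [Algebra P L]
    [IsScalarTower E P L] [CommRing T] [Algebra P T] [Algebra.Smooth P T] (ι : T →ₐ[P] L)
    (hι : Function.Injective ι) {n : ℕ} (φ : MvPolynomial (Fin n) P →ₐ[P] T) (hφ : Function.Surjective φ)
    (G : Set (MvPolynomial (Fin n) E)) (hG : Ideal.span (MvPolynomial.map (algebraMap E P) '' G) = RingHom.ker φ) :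
    Algebra.Smooth E (MvPolynomial.aeval fun i => ι (φ (MvPolynomial.X i)) : MvPolynomial (Fin n) E →ₐ[E] L).range := by
  letI : Algebra E T := ((algebraMap P T).comp (algebraMap E P)).toAlgebra
  haveI : IsScalarTower E P T := IsScalarTower.of_algebraMap_eq fun _ => rfl
  set f : MvPolynomial (Fin n) E →ₐ[E] L := MvPolynomial.aeval fun i => ι (φ (MvPolynomial.X i)) with hfdef
  let mE : MvPolynomial (Fin n) E →ₐ[E] MvPolynomial (Fin n) P := MvPolynomial.mapAlgHom (Algebra.ofId E P)
  have hmE : ∀ p, mE p = MvPolynomial.map (algebraMap E P) p := fun p => rfl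
  have hf : ∀ p, f p = ι (φ (mE p)) := fun p => by
    have : f = (ι.restrictScalars E).comp ((φ.restrictScalars E).comp mE) :=
      MvPolynomial.algHom_ext fun i => by simp [hfdef, mE]
    exact DFunLike.congr_fun this p
  let J : Ideal (MvPolynomial (Fin n) E) := Ideal.span G
  let fT₀ : MvPolynomial (Fin n) E →ₐ[E] T := (φ.restrictScalars E).comp mE
  have hJ : J ≤ RingHom.ker fT₀ := Ideal.span_le.2 fun r hr => RingHom.mem_ker.2
    (RingHom.mem_ker.1 (hG.le (Ideal.subset_span ⟨r, hr, (hmE r).symm.trans rfl⟩) : mE r ∈ RingHom.ker φ))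
  let Q := MvPolynomial (Fin n) E ⧸ J
  let fT : Q →ₐ[E] T := Ideal.Quotient.liftₐ J fT₀ fun a ha => hJ ha
  let ψ : P ⊗[E] Q →ₐ[P] T := Algebra.TensorProduct.lift (Algebra.ofId P T) fT fun _ _ => Commute.all _ _
  let θ : MvPolynomial (Fin n) P →ₐ[P] P ⊗[E] Q :=
    MvPolynomial.aeval fun i => (1 : P) ⊗ₜ[E] Ideal.Quotient.mk J (MvPolynomial.X i)
  have hθm : ∀ p : MvPolynomial (Fin n) E, θ (mE p) = (1 : P) ⊗ₜ[E] Ideal.Quotient.mk J p := fun p => by
    have : (θ.restrictScalars E).comp mE = Algebra.TensorProduct.includeRight.comp (Ideal.Quotient.mkₐ E J) :=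
      MvPolynomial.algHom_ext fun i => by simp [θ, mE]
    exact DFunLike.congr_fun this p
  have hψθ : ψ.comp θ = φ := MvPolynomial.algHom_ext fun i => by
    simp only [AlgHom.comp_apply, θ, MvPolynomial.aeval_X, ψ, Algebra.TensorProduct.lift_tmul, map_one, one_mul]
    show fT₀ (MvPolynomial.X i) = _
    simp [fT₀, mE]
  have hθs : Function.Surjective θ := fun z => by
    induction z using TensorProduct.induction_on with
    | zero => exact ⟨0, map_zero _⟩
    | tmul c y =>
      obtain ⟨y, rfl⟩ := Ideal.Quotient.mk_surjective y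
      refine ⟨c • mE y, ?_⟩
      rw [map_smul, hθm, TensorProduct.smul_tmul', smul_eq_mul, mul_one]
    | add x y hx hy =>
      obtain ⟨p, rfl⟩ := hx
      obtain ⟨p', rfl⟩ := hy
      exact ⟨p + p', map_add _ _ _⟩
  have hψ : Function.Bijective ψ := by
    refine ⟨(injective_iff_map_eq_zero ψ).2 fun z hz => ?_, fun t => ?_⟩
    · obtain ⟨p, rfl⟩ := hθs z
      have hp : p ∈ RingHom.ker φ := RingHom.mem_ker.2 (by rw [← hψθ]; exact hz)
      rw [← hG] at hp
      have hle : Ideal.span (MvPolynomial.map (algebraMap E P) '' G) ≤ RingHom.ker θ := Ideal.span_le.2 (by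
        rintro _ ⟨r, hr, rfl⟩
        rw [SetLike.mem_coe, RingHom.mem_ker, ← hmE, hθm,
          show Ideal.Quotient.mk J r = 0 from Ideal.Quotient.eq_zero_iff_mem.2 (Ideal.subset_span hr),
          TensorProduct.tmul_zero])
      exact RingHom.mem_ker.1 (hle hp)
    · obtain ⟨p, rfl⟩ := hφ t
      exact ⟨θ p, DFunLike.congr_fun hψθ p⟩
  haveI : Algebra.Smooth P (P ⊗[E] Q) := Algebra.Smooth.of_equiv (AlgEquiv.ofBijective ψ hψ).symm
  haveI : Algebra.Smooth E Q := Algebra.Smooth.of_smooth_tensorProduct_of_faithfullyFlat (R := E) P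
  let fQ : Q →ₐ[E] L := Ideal.Quotient.liftₐ J f fun a ha => (hf a).trans
    (by rw [show φ (mE a) = 0 from hJ ha, map_zero])
  have hfQ : ∀ z, ι (fT z) = fQ z := fun z => by
    obtain ⟨z, rfl⟩ := Ideal.Quotient.mk_surjective z
    exact (hf z).symm
  have hQi : Function.Injective fQ := fun x y h => by
    have h1 : ψ ((1 : P) ⊗ₜ x) = ψ ((1 : P) ⊗ₜ y) := by
      simp only [ψ, Algebra.TensorProduct.lift_tmul, map_one, one_mul]
      exact hι (by rw [hfQ, hfQ, h])
    exact Algebra.TensorProduct.includeRight_injective (R := E) (A := P) (RingHom.injective _) (hψ.1 h1)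
  have hr : fQ.range = f.range := by
    refine le_antisymm ?_ ?_
    · rintro _ ⟨z, rfl⟩
      obtain ⟨z, rfl⟩ := Ideal.Quotient.mk_surjective z
      exact ⟨z, rfl⟩
    · rintro _ ⟨z, rfl⟩
      exact ⟨Ideal.Quotient.mk J z, rfl⟩
  rw [← hr]
  exact Algebra.Smooth.of_equiv (AlgEquiv.ofInjective fQ hQi)

variable (k A L : Type u) [Field k] [CommRing A] [Algebra k A] [Field L] [Algebra A L] [Algebra k L]
  [IsScalarTower k A L]

/-- The compositum of the image of `A` with a field of constants. -/
abbrev Dom (E : IntermediateField k L) : Subalgebra E L := Algebra.adjoin E (Set.range (algebraMap A L))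

theorem algebraMap_mem (E : IntermediateField k L) (a : A) : algebraMap A L a ∈ Dom k A L E :=
  Algebra.subset_adjoin ⟨a, rfl⟩

theorem coe_mem (E : IntermediateField k L) {x : L} (hx : x ∈ E) : x ∈ Dom k A L E :=
  (Dom k A L E).algebraMap_mem ⟨x, hx⟩

variable {k A L}

theorem dom_mono {E E' : IntermediateField k L} (h : E ≤ E') {x : L} (hx : x ∈ Dom k A L E) : x ∈ Dom k A L E' := by
  induction hx using Algebra.adjoin_induction with
  | mem x hx => exact Algebra.subset_adjoin hx
  | algebraMap r => exact coe_mem k A L E' (h r.2)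
  | add x y _ _ hx hy => exact add_mem hx hy
  | mul x y _ _ hx hy => exact mul_mem hx hy

/-- An element of `Dom P` lies in `Dom E` once `E` contains finitely many constants. -/
theorem exists_constants {P : IntermediateField k L} {x : L} (hx : x ∈ Dom k A L P) :
    ∃ S : Finset L, (S : Set L) ⊆ P ∧ ∀ E : IntermediateField k L, (S : Set L) ⊆ E → x ∈ Dom k A L E := by
  classical
  induction hx using Algebra.adjoin_induction with
  | mem x hx => exact ⟨∅, by simp, fun E _ => Algebra.subset_adjoin hx⟩
  | algebraMap r => exact ⟨{(r : L)}, by simp, fun E hE => coe_mem k A L E (hE (by simp))⟩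
  | add x y _ _ hx hy =>
    obtain ⟨S, hS, hS'⟩ := hx
    obtain ⟨T, hT, hT'⟩ := hy
    refine ⟨S ∪ T, by simp [hS, hT], fun E hE => ?_⟩
    simp only [Finset.coe_union, Set.union_subset_iff] at hE
    exact add_mem (hS' E hE.1) (hT' E hE.2)
  | mul x y _ _ hx hy =>
    obtain ⟨S, hS, hS'⟩ := hx
    obtain ⟨T, hT, hT'⟩ := hy
    refine ⟨S ∪ T, by simp [hS, hT], fun E hE => ?_⟩
    simp only [Finset.coe_union, Set.union_subset_iff] at hE
    exact mul_mem (hS' E hE.1) (hT' E hE.2)

/-- Integrality over the domain of a larger, algebraic, field of constants descends. -/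
theorem isIntegral_descend {E P : IntermediateField k L} [Algebra.IsAlgebraic k P] {y : L}
    (hy : IsIntegral (Dom k A L P) y) : IsIntegral (Dom k A L E) y := by
  let IC : Subalgebra (Dom k A L E) L := integralClosure (Dom k A L E) L
  have hle : ∀ x ∈ Dom k A L P, x ∈ IC := by
    intro x hx
    induction hx using Algebra.adjoin_induction with
    | mem x hx => exact isIntegral_algebraMap (R := Dom k A L E) (A := L) (x := ⟨x, Algebra.subset_adjoin hx⟩)
    | algebraMap r =>
      obtain ⟨p, hp, hpr⟩ := (Algebra.IsAlgebraic.isAlgebraic (R := k) r).isIntegral.map P.val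
      exact IsIntegral.tower_top (A := Dom k A L E) ⟨p, hp, hpr⟩
    | add x y _ _ hx hy => exact add_mem hx hy
    | mul x y _ _ hx hy => exact mul_mem hx hy
  let incl : Dom k A L P →+* IC := (Dom k A L P).val.toRingHom.codRestrict IC fun x => hle x.1 x.2
  have h2 : IsIntegral IC y := hy.map_of_comp_eq incl (RingHom.id L) (RingHom.ext fun _ => rfl)
  exact isIntegral_trans y h2

variable (k A L)

/-- Ring statement. -/
theorem exists_good [IsDomain A] [Algebra.FiniteType k A] [Ring.DimensionLEOne A] [IsAlgClosed L]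
    (hinj : Function.Injective (algebraMap A L)) :
    ∃ S : Finset L, (S : Set L) ⊆ perfectClosure k L ∧ ∀ E : IntermediateField k L, E ≤ perfectClosure k L →
      (S : Set L) ⊆ E → ∃ C : Subalgebra E L, (∀ a, algebraMap A L a ∈ C) ∧ Algebra.Smooth E C ∧
        ∀ c ∈ C, IsIntegral (Dom k A L E) c ∧
          ∃ d ∈ Dom k A L E, d ≠ 0 ∧ d * c ∈ Dom k A L E := by
  classical
  haveI : PerfectField L := inferInstance
  let P := perfectClosure k L
  let D := Dom k A L P
  obtain ⟨gA, hgA⟩ := (inferInstance : Algebra.FiniteType k A).out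
  have hD : D = Algebra.adjoin P (algebraMap A L '' (gA : Set A)) := by
    refine le_antisymm (Algebra.adjoin_le ?_) (Algebra.adjoin_mono (Set.image_subset_range _ _))
    rintro _ ⟨a, rfl⟩
    have ha : a ∈ Algebra.adjoin k (gA : Set A) := hgA ▸ Algebra.mem_top
    induction ha using Algebra.adjoin_induction with
    | mem x hx => exact Algebra.subset_adjoin ⟨x, hx, rfl⟩
    | algebraMap r =>
      rw [← IsScalarTower.algebraMap_apply k A L, IsScalarTower.algebraMap_apply k P L]
      exact Subalgebra.algebraMap_mem _ _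
    | add x y _ _ hx hy => rw [map_add]; exact add_mem hx hy
    | mul x y _ _ hx hy => rw [map_mul]; exact mul_mem hx hy
  haveI : Algebra.FiniteType P D :=
    ⟨Subalgebra.fg_top D |>.2 (hD ▸ ⟨gA.image (algebraMap A L), by rw [Finset.coe_image]⟩)⟩
  let F := FractionRing D
  let T := integralClosure D F
  haveI : Module.Finite D T := N2Field.finite_integralClosure P D F F
  haveI : Algebra.FiniteType P T :=
    Algebra.FiniteType.trans (inferInstance : Algebra.FiniteType P D) (Module.Finite.finiteType _)
  have hDL : Function.Injective (D.val : D →ₐ[P] L) := Subtype.val_injective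
  let ιF : F →ₐ[P] L := IsFractionRing.liftAlgHom (g := D.val) hDL
  let ι : T →ₐ[P] L := ιF.comp (T.restrictScalars P).val
  have hι : Function.Injective ι := ιF.toRingHom.injective.comp Subtype.val_injective
  have hιD : ∀ d : D, ι (algebraMap D T d) = d := fun d => by
    show IsFractionRing.liftAlgHom (g := D.val) hDL (algebraMap D F d) = _
    rw [IsFractionRing.liftAlgHom_apply, IsFractionRing.lift_algebraMap]
    rfl
  -- dimension and smoothness
  letI : Algebra A D := ((algebraMap A L).codRestrict D (algebraMap_mem k A L P)).toAlgebra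
  haveI : Algebra.IsIntegral A D := by
    refine ⟨fun x => ?_⟩
    obtain ⟨x, hx⟩ := x
    induction hx using Algebra.adjoin_induction with
    | mem x hx => obtain ⟨a, rfl⟩ := hx; exact isIntegral_algebraMap (x := a)
    | algebraMap r =>
      have hr : IsIntegral k r := (Algebra.IsAlgebraic.isAlgebraic r).isIntegral
      exact hr.map_of_comp_eq (algebraMap k A) (algebraMap P D) (RingHom.ext fun z => Subtype.ext (by
        show algebraMap A L (algebraMap k A z) = ((algebraMap k P z : P) : L)
        rw [← IsScalarTower.algebraMap_apply]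
        rfl))
    | add x y hx' hy' hx hy => exact hx.add hy
    | mul x y hx' hy' hx hy => exact hx.mul hy
  haveI : Ring.DimensionLEOne D := dimensionLEOne_of_integral (A := A)
  haveI : Ring.DimensionLEOne T := dimensionLEOne_of_integral (A := D)
  haveI : IsIntegrallyClosed T := integralClosure.isIntegrallyClosedOfFiniteExtension F
  haveI : IsNoetherianRing T := Algebra.FiniteType.isNoetherianRing P T
  haveI : IsDedekindDomain T := {}
  haveI : Algebra.Smooth P T := GenBertini.smooth_of_regular P T
  -- presentation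
  obtain ⟨n, φ, hφ⟩ := Algebra.FiniteType.iff_quotient_mvPolynomial''.1 (inferInstance : Algebra.FiniteType P T)
  haveI : IsNoetherianRing (MvPolynomial (Fin n) P) := inferInstance
  obtain ⟨G, hG⟩ : (RingHom.ker φ).FG := IsNoetherian.noetherian _
  have hden : ∀ i, ∃ d ∈ D, d ≠ (0 : L) ∧ d * ι (φ (MvPolynomial.X i)) ∈ D := fun i => by
    obtain ⟨⟨a, b⟩, hab⟩ := IsLocalization.surj (nonZeroDivisors D) ((φ (MvPolynomial.X i) : T) : F)
    refine ⟨(b : D), (b : D).2, fun h => nonZeroDivisors.coe_ne_zero b (Subtype.ext h), ?_⟩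
    have h := congrArg ιF hab
    rw [map_mul] at h
    have e : ∀ d : D, ιF (algebraMap D F d) = d := hιD
    rw [e, e] at h
    rw [mul_comm]
    exact h ▸ a.2
  choose d hdD hd0 hdx using hden
  choose Sd hSd hSd' using fun i => exists_constants (hdD i)
  choose Sx hSx hSx' using fun i => exists_constants (hdx i)
  have hgen : ∀ a : A, ∃ q : MvPolynomial (Fin n) P, ι (φ q) = algebraMap A L a := fun a => by
    obtain ⟨q, hq⟩ := hφ (algebraMap D T ⟨algebraMap A L a, algebraMap_mem k A L P a⟩)
    exact ⟨q, by rw [hq, hιD]⟩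
  choose q hq using hgen
  let co : MvPolynomial (Fin n) P → Finset L := fun p => p.coeffs.image P.val
  have hco : ∀ p, (co p : Set L) ⊆ P := fun p x hx => by
    obtain ⟨y, -, rfl⟩ := Finset.mem_image.1 (Finset.mem_coe.1 hx)
    exact y.2
  let S : Finset L := (Finset.univ.biUnion fun i => Sd i ∪ Sx i) ∪ (G.biUnion co) ∪ (gA.biUnion fun a => co (q a))
  refine ⟨S, ?_, fun E hEP hSE => ?_⟩
  · intro x hx
    simp only [S, Finset.coe_union, Finset.coe_biUnion, Set.mem_union, Set.mem_iUnion, Finset.mem_coe] at hx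
    rcases hx with (⟨i, -, hx | hx⟩ | ⟨p, -, hx⟩) | ⟨a, -, hx⟩
    · exact hSd i hx
    · exact hSx i hx
    · exact hco p (Finset.mem_coe.2 hx)
    · exact hco (q a) (Finset.mem_coe.2 hx)
  have hSdE : ∀ i, (Sd i : Set L) ⊆ E := fun i x hx => hSE (by
    simp only [S, Finset.coe_union, Finset.coe_biUnion, Set.mem_union, Set.mem_iUnion, Finset.mem_coe]
    exact Or.inl (Or.inl ⟨i, Finset.mem_univ _, Or.inl hx⟩))
  have hSxE : ∀ i, (Sx i : Set L) ⊆ E := fun i x hx => hSE (by
    simp only [S, Finset.coe_union, Finset.coe_biUnion, Set.mem_union, Set.mem_iUnion, Finset.mem_coe]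
    exact Or.inl (Or.inl ⟨i, Finset.mem_univ _, Or.inr hx⟩))
  have hGE : ∀ p ∈ G, (co p : Set L) ⊆ E := fun p hp x hx => hSE (by
    simp only [S, Finset.coe_union, Finset.coe_biUnion, Set.mem_union, Set.mem_iUnion, Finset.mem_coe]
    exact Or.inl (Or.inr ⟨p, hp, hx⟩))
  have hqE : ∀ a ∈ gA, (co (q a) : Set L) ⊆ E := fun a ha x hx => hSE (by
    simp only [S, Finset.coe_union, Finset.coe_biUnion, Set.mem_union, Set.mem_iUnion, Finset.mem_coe]
    exact Or.inr ⟨a, ha, hx⟩)
  letI : Algebra E P := (IntermediateField.inclusion hEP).toRingHom.toAlgebra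
  haveI : IsScalarTower E P L := IsScalarTower.of_algebraMap_eq fun _ => rfl
  have hlift : ∀ p : MvPolynomial (Fin n) P, (co p : Set L) ⊆ E →
      ∃ p', MvPolynomial.map (algebraMap E P) p' = p := fun p hp => by
    refine MvPolynomial.mem_range_map_iff_coeffs_subset.2 fun c hc => ?_
    exact ⟨⟨(c : L), hp (Finset.mem_coe.2 (Finset.mem_image.2 ⟨c, hc, rfl⟩))⟩, Subtype.ext rfl⟩
  choose g hg using hlift
  let f : MvPolynomial (Fin n) E →ₐ[E] L := MvPolynomial.aeval fun i => ι (φ (MvPolynomial.X i))
  have hf : ∀ p, f p = ι (φ (MvPolynomial.map (algebraMap E P) p)) := fun p => by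
    induction p using MvPolynomial.induction_on with
    | C r => simp [f, IsScalarTower.algebraMap_apply E P L]
    | add x y hx hy => simp only [map_add, hx, hy]
    | mul_X x i hx => simp only [map_mul, hx, MvPolynomial.map_X, f, MvPolynomial.aeval_X]
  have hsm : Algebra.Smooth E f.range := smooth_range ι hι φ hφ (Set.range fun p : G => g p.1 (hGE p.1 p.2)) (by
    rw [← hG, ← Set.range_comp]
    congr 1
    ext p
    constructor
    · rintro ⟨⟨p, hp⟩, rfl⟩
      show MvPolynomial.map _ (g p _) ∈ (G : Set (MvPolynomial (Fin n) P))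
      rw [hg]
      exact hp
    · intro hp
      exact ⟨⟨p, hp⟩, hg p _⟩)
  refine ⟨f.range, fun a => ?_, hsm, ?_⟩
  · have ha : a ∈ Algebra.adjoin k (gA : Set A) := hgA ▸ Algebra.mem_top
    induction ha using Algebra.adjoin_induction with
    | mem x hx => exact ⟨g (q x) (hqE x hx), by
        show f (g (q x) (hqE x hx)) = _
        rw [hf, hg, hq]⟩
    | algebraMap r =>
      rw [← IsScalarTower.algebraMap_apply k A L, IsScalarTower.algebraMap_apply k E L]
      exact Subalgebra.algebraMap_mem _ _
    | add x y _ _ hx hy => rw [map_add]; exact add_mem hx hy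
    | mul x y _ _ hx hy => rw [map_mul]; exact mul_mem hx hy
  rintro c ⟨z, rfl⟩
  refine ⟨?_, ?_⟩
  · refine isIntegral_descend (P := P) ?_
    show IsIntegral D (f z)
    rw [hf]
    exact (Algebra.IsIntegral.isIntegral (R := D) (φ (MvPolynomial.map (algebraMap E P) z))).map_of_comp_eq (RingHom.id D) ι.toRingHom
      (RingHom.ext fun x => (hιD x).symm)
  show ∃ d ∈ Dom k A L E, d ≠ 0 ∧ d * f z ∈ Dom k A L E
  induction z using MvPolynomial.induction_on with
  | C r => exact ⟨1, one_mem _, one_ne_zero, by
      rw [one_mul, MvPolynomial.aeval_C]; exact Subalgebra.algebraMap_mem _ _⟩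
  | add x y hx hy =>
    obtain ⟨a, ha, ha0, hax⟩ := hx
    obtain ⟨b, hb, hb0, hby⟩ := hy
    refine ⟨a * b, mul_mem ha hb, mul_ne_zero ha0 hb0, ?_⟩
    rw [map_add, show a * b * (f x + f y) = b * (a * f x) + a * (b * f y) by ring]
    exact add_mem (mul_mem hb hax) (mul_mem ha hby)
  | mul_X x i hx =>
    obtain ⟨a, ha, ha0, hax⟩ := hx
    refine ⟨a * d i, mul_mem ha (hSd' i E (hSdE i)), mul_ne_zero ha0 (hd0 i), ?_⟩
    rw [map_mul, MvPolynomial.aeval_X, show a * d i * (f x * ι (φ (MvPolynomial.X i))) =
      a * f x * (d i * ι (φ (MvPolynomial.X i))) by ring]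
    exact mul_mem hax (hSx' i E (hSxE i))

end

end Groth.Agent.NormPiSmooth
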